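import Groth.Agent.L25.NilAction
import Groth.Agent.L25.Translate
import Mathlib.RingTheory.Artinian.Ring
import Mathlib.AlgebraicGeometry.Morphisms.ClosedImmersion

/-!
# Topological statements on group schemes over Artinian local rings
-/

set_option autoImplicit false
universe u

open CategoryTheory CategoryTheory.Limits MonoidalCategory CartesianMonoidalCategory MonObj AlgebraicGeometry

set_option backward.isDefEq.respectTransparency.types false

noncomputable section

namespace Groth.L25.Artinian

variable (A : Type u) [CommRing A] [IsArtinianRing A] [IsLocalRing A]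

/-- The closed point of the spectrum of an Artinian local ring. -/
abbrev res : Spec (CommRingCat.of (IsLocalRing.ResidueField A)) ⟶ Spec (CommRingCat.of A) :=
  Spec.map (CommRingCat.ofHom (IsLocalRing.residue A))

theorem res_props : IsClosedImmersion (res A) ∧ Surjective (res A) := by
  refine ⟨IsClosedImmersion.spec_of_surjective _ IsLocalRing.residue_surjective, ⟨fun p => ?_⟩⟩
  exact ⟨IsLocalRing.closedPoint _, PrimeSpectrum.ext
    ((IsLocalRing.eq_maximalIdeal (IsArtinianRing.isMaximal_of_isPrime (PrimeSpectrum.asIdeal (R := A) _))).trans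
      (IsLocalRing.eq_maximalIdeal (IsArtinianRing.isMaximal_of_isPrime (PrimeSpectrum.asIdeal (R := A) p))).symm)⟩

variable {A}

theorem homeo {X : Over (Spec (CommRingCat.of A))} :
    Function.Bijective (pullback.fst X.hom (res A)) ∧ IsOpenMap (pullback.fst X.hom (res A)) := by
  haveI := (res_props A).1
  haveI := (res_props A).2
  haveI : IsClosedImmersion (pullback.fst X.hom (res A)) := MorphismProperty.pullback_fst _ _ ‹_›
  have hb : Function.Bijective (pullback.fst X.hom (res A)) :=
    ⟨(pullback.fst X.hom (res A)).injective, (pullback.fst X.hom (res A)).surjective⟩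
  refine ⟨hb, ?_⟩
  intro U hU
  rw [← isClosed_compl_iff, ← Set.image_compl_eq hb]
  exact (pullback.fst X.hom (res A)).isClosedMap _ hU.isClosed_compl

theorem exists_mul_eq_of_dense (G : Over (Spec (CommRingCat.of A))) [GrpObj G] (U V : G.left.Opens)
    (hU : Dense (U : Set G.left)) (hV : Dense (V : Set G.left)) (g : G.left) :
    ∃ z : ↥(G ⊗ G).left, (fst G G).left z ∈ U ∧ (snd G G).left z ∈ V ∧ μ[G].left z = g := by
  let p := pullback.fst G.hom (res A)
  obtain ⟨hb, ho⟩ := homeo (X := G)
  obtain ⟨x, hx⟩ := hb.2 g
  let Gk := Red.bc (res A) G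
  obtain ⟨w, hw, h1, h2⟩ := Translate.exists_mul_eq_of_dense (G := Gk) (U := p ⁻¹' (U : Set G.left))
    (V := p ⁻¹' (V : Set G.left)) (U.2.preimage p.continuous) (hU.preimage ho) (hV.preimage ho) x
  let a := NilAction.toBase (res A) (fst Gk Gk)
  let b := NilAction.toBase (res A) (snd Gk Gk)
  have hab : (a * b).left = μ[Gk].left ≫ p := by
    rw [← NilAction.toBase_mul, ← MonObj.mul_eq_mul (M := Gk)]
    rfl
  refine ⟨(CartesianMonoidalCategory.lift a b).left w, ?_, ?_, ?_⟩
  · rw [show (fst G G).left ((CartesianMonoidalCategory.lift a b).left w) = a.left w from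
      congr(($(lift_fst a b)).left w)]
    exact h1
  · rw [show (snd G G).left ((CartesianMonoidalCategory.lift a b).left w) = b.left w from
      congr(($(lift_snd a b)).left w)]
    exact h2
  · have e : (CartesianMonoidalCategory.lift a b ≫ μ[G]).left = (a * b).left := rfl
    have e' := congrArg (fun φ : _ ⟶ G.left => φ w) (e.trans hab)
    exact e'.trans ((congrArg p hw).trans hx)

theorem isClosedImmersion_subgroup (G H : Over (Spec (CommRingCat.of A))) [GrpObj G] [GrpObj H]
    (u : H ⟶ G) [IsMonHom u] [IsImmersion u.left] : IsClosedImmersion u.left := by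
  let p := pullback.fst G.hom (res A)
  let q := pullback.fst H.hom (res A)
  obtain ⟨hpb, hpo⟩ := homeo (X := G)
  obtain ⟨hqb, -⟩ := homeo (X := H)
  let uk := (Over.pullback (res A)).map u
  have hsq : uk.left ≫ p = q ≫ u.left := pullback.lift_fst _ _ _
  have hrange : Set.range uk.left = p ⁻¹' Set.range u.left := by
    ext x
    constructor
    · rintro ⟨h, rfl⟩
      exact ⟨q h, congrArg (fun φ : _ ⟶ G.left => φ h) hsq.symm⟩
    · rintro ⟨y, hy⟩
      obtain ⟨h, rfl⟩ := hqb.2 y
      exact ⟨h, hpb.1 ((congrArg (fun φ : _ ⟶ G.left => φ h) hsq).trans hy)⟩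
  have hlc : IsLocallyClosed (Set.range u.left) := u.left.isLocallyClosed_range
  obtain ⟨O, Z, hO, hZ, hOZ⟩ := hlc
  have hclosed : IsClosed (Set.range uk.left) := by
    refine Translate.isClosed_range_of_inter uk (O := p ⁻¹' O) (hO.preimage p.continuous) ?_
    refine Set.Subset.antisymm (fun x hx => ⟨subset_closure hx, ?_⟩) fun x hx => ?_
    · rw [hrange, Set.mem_preimage, hOZ] at hx
      exact hx.1
    · rw [hrange, Set.mem_preimage, hOZ]
      refine ⟨hx.2, ?_⟩
      have : closure (Set.range uk.left) ⊆ p ⁻¹' Z :=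
        closure_minimal (by rw [hrange, hOZ]; exact fun y hy => hy.2) (hZ.preimage p.continuous)
      exact this hx.1
  refine IsClosedImmersion.of_isPreimmersion u.left ?_
  rw [← isOpen_compl_iff, ← Set.image_preimage_eq (Set.range u.left)ᶜ hpb.2, Set.preimage_compl, ← hrange]
  exact hpo _ hclosed.isOpen_compl

end Groth.L25.Artinian
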